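import Cfsg.Agent.H175.BdSp_m3
import Cfsg.Agent.H936.AltBig2
import Mathlib
import Cfsg.Agent.H528.EP.UB3_m3
import Cfsg.Agent.S0245
import Cfsg.Agent.S0246
import Cfsg.Agent.S0270
import Cfsg.Agent.S0814
import Cfsg.Agent.S2092
import Cfsg.Agent.Prune
set_option linter.all false
prune_inst 0x7f00000000000000000000000000000000000000000000000000000000000000000000000000000000000000000000000000000000000000000000000000000000000000000000000000000000000000003fffffffffffffffffffffffffffbeffbdffffffff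
open scoped Cfsg.Agent.FastGrp

-- part: H354/EPV/Tw
section
/-!
# Representations of `Sp_6(3)` over `F_2` (helper354, S3499-V)

`twist`: a homomorphism `Sp_6(3) → GL_n(2)` with central kernel has `n ≥ 26` (the weights of a subgroup `3^3` of the
Siegel radical are closed under inversion, by the Frobenius twist; a Singer cycle gives `13 + 13` weights).
-/

set_option autoImplicit false

namespace Cfsg.Agent.H354.EPV

open Matrix Cfsg.Agent.H912.Bd Cfsg.Agent.H175.BdSp

/-- the Frobenius twist of a vector -/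
theorem repK_sq {F : Type} [Field F] [Fintype F] (hF : Fintype.card F = 2) {n : ℕ} {L : Type} [Group L]
    (ρ : L →* Matrix.GeneralLinearGroup (Fin n) F) (g : L) (v : Fin n → AlgebraicClosure F) (i : Fin n) :
    repK ρ g (fun j => v j ^ 2) i = (repK ρ g v i) ^ 2 := by
  have h2 : CharP F 2 := by
    have h3 : (2 : F) = 0 := by
      have h4 := FiniteField.cast_card_eq_zero F
      rw [hF] at h4
      exact_mod_cast h4
    exact CharTwo.of_one_ne_zero_of_two_eq_zero one_ne_zero h3
  have h2' : CharP (AlgebraicClosure F) 2 :=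
    charP_of_injective_algebraMap (algebraMap F (AlgebraicClosure F)).injective 2
  have key : ∀ w : Fin n → AlgebraicClosure F, repK ρ g w i = ∑ j, algebraMap F (AlgebraicClosure F)
      ((ρ g : Matrix (Fin n) (Fin n) F) i j) * w j := by
    intro w
    show (Matrix.toLin' _ w) i = _
    rw [Matrix.toLin'_apply]
    rfl
  rw [key, key, sum_pow_char 2]
  refine Finset.sum_congr rfl fun j _ => ?_
  rw [mul_pow, ← map_pow]
  congr 2
  have h5 := FiniteField.pow_card (K := F) ((ρ g : Matrix (Fin n) (Fin n) F) i j)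
  rw [hF] at h5
  exact h5.symm

theorem twist {K : Type} [Field K] [Fintype K] (hK : Fintype.card K = 3) {F : Type} [Field F] [Fintype F]
    (hF : Fintype.card F = 2) {n : ℕ} (ρ : Matrix.symplecticGroup (Fin 3) K →* Matrix.GeneralLinearGroup (Fin n) F)
    (hρ : ρ.ker ≤ Subgroup.center _) : 26 ≤ n := by
  classical
  have h2 : CharP F 2 := by
    have h3 : (2 : F) = 0 := by
      have h4 := FiniteField.cast_card_eq_zero F
      rw [hF] at h4
      exact_mod_cast h4
    exact CharTwo.of_one_ne_zero_of_two_eq_zero one_ne_zero h3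
  have h2' : CharP (AlgebraicClosure F) 2 :=
    charP_of_injective_algebraMap (algebraMap F (AlgebraicClosure F)).injective 2
  have : Fact (Nat.Prime 3) := ⟨by norm_num⟩
  have hcK : CharP K 3 := by
    obtain ⟨p, hp⟩ := CharP.exists K
    obtain ⟨k, hp', hk⟩ := FiniteField.card K p
    rw [hK] at hk
    have h5 : p ∣ 3 := by
      rw [hk]
      exact dvd_pow_self p k.ne_zero
    have h6 : p = 3 := (Nat.prime_dvd_prime_iff_eq hp' (by norm_num)).1 h5
    exact h6 ▸ hp
  let L := FiniteField.Extension K 3 3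
  have hLfin : Finite L := inferInstance
  have hLcard : Nat.card L = 27 := by
    rw [FiniteField.natCard_extension, Nat.card_eq_fintype_card, hK]
    norm_num
  have hfr : Module.finrank K L = 3 := FiniteField.finrank_extension K 3 3
  have : FiniteDimensional K L := inferInstance
  have : Algebra.IsSeparable K L := inferInstance
  have hLchar : CharP L 3 := charP_of_injective_algebraMap (algebraMap K L).injective 3
  let b : Module.Basis (Fin 3) K L := Module.finBasisOfFinrankEq K L hfr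
  obtain ⟨x, hx⟩ := IsCyclic.exists_generator (α := Lˣ)
  have hxo : orderOf x = 26 := by
    rw [orderOf_eq_card_of_forall_mem_zpowers hx, Nat.card_units, hLcard]
  let M : L →ₐ[K] Matrix (Fin 3) (Fin 3) K := Algebra.leftMulMatrix b
  have hM : ∀ u : Lˣ, M ((u⁻¹ : Lˣ) : L) * ((M (u : L))ᵀ)ᵀ = 1 := by
    intro u
    rw [transpose_transpose, ← map_mul, Units.inv_mul, map_one]
  let D : Lˣ → Matrix.symplecticGroup (Fin 3) K := fun u => di _ _ (hM u)
  let e : L → Matrix.symplecticGroup (Fin 3) K := fun a => lo (gram b a) (gram_transpose b a)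
  have he_add : ∀ a a', e a * e a' = e (a + a') := by
    intro a a'
    rw [lo_mul]
    exact lo_congr (gram_add b a a').symm
  have he_zero : e 0 = 1 := by
    rw [← lo_zero (by simp : (0 : Matrix (Fin 3) (Fin 3) K)ᵀ = 0)]
    exact lo_congr (gram_zero b)
  have he_inj : ∀ a, e a ∈ Subgroup.center (Matrix.symplecticGroup (Fin 3) K) → a = 0 := fun a ha =>
    eq_zero_of_gram b (lo_center _ ha)
  have hDe : ∀ u a, D u * e a = e ((u : L) ^ 2 * a) * D u := by
    intro u a
    rw [di_lo]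
    congr 1
    apply lo_congr
    rw [transpose_transpose, mul_gram, gram_mul]
    congr 1
    ring
  have he_neg : ∀ a, (e a)⁻¹ = e (-a) := by
    intro a
    rw [inv_eq_iff_mul_eq_one, he_add, add_neg_cancel, he_zero]
  let E0 : Subgroup (Matrix.symplecticGroup (Fin 3) K) :=
    { carrier := Set.range e
      one_mem' := ⟨0, he_zero⟩
      mul_mem' := by
        rintro _ _ ⟨a, rfl⟩ ⟨a', rfl⟩
        exact ⟨_, (he_add a a').symm⟩
      inv_mem' := by
        rintro _ ⟨a, rfl⟩
        exact ⟨_, (he_neg a).symm⟩ }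
  have hmem0 : ∀ a, e a ∈ E0 := fun a => ⟨a, rfl⟩
  have hDpow : ∀ (i : ℕ) (a : L), D x ^ i * e a = e (((x : L) ^ (2 * i)) * a) * D x ^ i := by
    intro i a
    induction i with
    | zero => simp
    | succ i ih =>
      rw [pow_succ', mul_assoc, ih, ← mul_assoc, hDe, mul_assoc]
      congr 2
      ring
  have hpow : ∀ (n : ℕ) (a : L), e a ^ n = e ((n : L) * a) := by
    intro n a
    induction n with
    | zero => rw [pow_zero, Nat.cast_zero, zero_mul, he_zero]
    | succ n ih => rw [pow_succ, ih, he_add]; congr 1; push_cast; ring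
  have h3L : (3 : L) = 0 := by exact_mod_cast CharP.cast_eq_zero L 3
  -- a weight
  have hN : ((3 : ℕ) : AlgebraicClosure F) ≠ 0 := by
    intro h0
    have h1 := (CharP.cast_eq_zero_iff (AlgebraicClosure F) 2 3).1 h0
    norm_num at h1
  have hck : repK ρ (e 1) ≠ 1 := by
    intro h0
    have h1 : e 1 ∈ ρ.ker := eq_one_of_repK h0
    exact one_ne_zero (he_inj 1 (hρ h1))
  obtain ⟨χ, hχ, hχc⟩ := exists_wt (repK ρ) (A := E0) (by
    rintro _ ⟨a, rfl⟩ _ ⟨a', rfl⟩
    rw [he_add, he_add, add_comm]) hN (by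
    rintro _ ⟨a, rfl⟩
    rw [hpow, Nat.cast_ofNat, h3L, zero_mul, he_zero]) (c := ⟨e 1, hmem0 1⟩) hck
  let X : L → AlgebraicClosure F := fun a => χ ⟨e a, hmem0 a⟩
  have hX1 : X 1 ≠ 1 := hχc
  have hXadd : ∀ a a', X (a + a') = X a * X a' := by
    intro a a'
    have h1 := wt_mul (repK ρ) hχ ⟨e a, hmem0 a⟩ ⟨e a', hmem0 a'⟩
    have h3 : (⟨e a, hmem0 a⟩ * ⟨e a', hmem0 a'⟩ : E0) = ⟨e (a + a'), hmem0 _⟩ := Subtype.ext (he_add a a')
    rw [h3] at h1
    exact h1
  have hX0 : X 0 = 1 := by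
    have h1 := wt_one (repK ρ) hχ
    have h3 : (1 : E0) = ⟨e 0, hmem0 0⟩ := Subtype.ext he_zero.symm
    rw [h3] at h1
    exact h1
  have hX3 : ∀ a, X a ^ 3 = 1 := by
    intro a
    have h1 : a + a + a = 0 := by linear_combination a * h3L
    rw [← hX0, ← h1, hXadd, hXadd]
    ring
  obtain ⟨v, hv, hv0⟩ := Submodule.exists_mem_ne_zero_of_ne_bot hχ
  rw [mem_wt] at hv
  have hv' : ∀ a, repK ρ (e a) v = X a • v := fun a => hv ⟨e a, hmem0 a⟩
  -- translates
  let y : L := ((x⁻¹ : Lˣ) : L)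
  have hxy : (x : L) * y = 1 := Units.mul_inv x
  let w : ℕ → (Fin n → AlgebraicClosure F) := fun i => repK ρ (D x ^ i) v
  have hw : ∀ i a, repK ρ (e a) (w i) = X (y ^ (2 * i) * a) • w i := by
    intro i a
    have h1 : e a * D x ^ i = D x ^ i * e (y ^ (2 * i) * a) := by
      rw [hDpow, ← mul_assoc, ← mul_pow, hxy, one_pow, one_mul]
    show (repK ρ (e a) * repK ρ (D x ^ i)) v = _
    rw [← map_mul, h1, map_mul, Module.End.mul_apply, hv', map_smul]
  have hw0 : ∀ i, w i ≠ 0 := by
    intro i h0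
    have h1 : (repK ρ ((D x ^ i)⁻¹) * repK ρ (D x ^ i)) v = 0 := by
      rw [Module.End.mul_apply]
      have : repK ρ (D x ^ i) v = 0 := h0
      rw [this, map_zero]
    rw [← map_mul, inv_mul_cancel, map_one, Module.End.one_apply] at h1
    exact hv0 h1
  -- the vectors
  let u : Fin 13 × Bool → (Fin n → AlgebraicClosure F) := fun p => if p.2 then (fun j => w p.1 j ^ 2) else w p.1
  let l : Fin 13 × Bool → L → AlgebraicClosure F := fun p a =>
    if p.2 then X (y ^ (2 * (p.1 : ℕ)) * a) ^ 2 else X (y ^ (2 * (p.1 : ℕ)) * a)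
  have hu0 : ∀ p, u p ≠ 0 := by
    rintro ⟨i, c⟩
    cases c
    · exact hw0 i
    · intro h0
      apply hw0 i
      funext j
      have h1 : w i j ^ 2 = 0 := congrFun h0 j
      exact pow_eq_zero_iff two_ne_zero |>.1 h1
  have hu : ∀ p a, repK ρ (e a) (u p) = l p a • u p := by
    rintro ⟨i, c⟩ a
    cases c
    · exact hw i a
    · funext j
      show repK ρ (e a) (fun j => w i j ^ 2) j = X (y ^ (2 * (i : ℕ)) * a) ^ 2 * w i j ^ 2
      rw [repK_sq hF, hw]
      show (X (y ^ (2 * (i : ℕ)) * a) * w i j) ^ 2 = _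
      ring
  -- the elements `y ^ (2 i) ± y ^ (2 j)`
  have hyu : ∀ k : ℕ, y ^ k = (((x⁻¹) ^ k : Lˣ) : L) := fun k => by rw [Units.val_pow_eq_pow_val]
  have hne : ∀ i j : ℕ, i < 13 → j < 13 → i ≠ j → y ^ (2 * i) - y ^ (2 * j) ≠ 0 := by
    intro i j hi hj hij h0
    rw [sub_eq_zero, hyu, hyu] at h0
    have h1 := Units.ext h0
    rw [pow_eq_pow_iff_modEq, orderOf_inv, hxo] at h1
    have h5 : (2 * i) % 26 = (2 * j) % 26 := h1
    omega
  have hx13 : (x : L) ^ 13 = -1 := by
    have h1 : ((x : L) ^ 13) ^ 2 = 1 := by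
      rw [← pow_mul, ← Units.val_pow_eq_pow_val, show 13 * 2 = orderOf x by rw [hxo], pow_orderOf_eq_one, Units.val_one]
    have h1' : ((x : L) ^ 13 - 1) * ((x : L) ^ 13 + 1) = 0 := by linear_combination h1
    rcases mul_eq_zero.1 h1' with h5 | h5
    · exfalso
      rw [sub_eq_zero] at h5
      have h6 : x ^ 13 = 1 := Units.ext (by rw [Units.val_pow_eq_pow_val, h5, Units.val_one])
      have h7 := orderOf_dvd_of_pow_eq_one h6
      rw [hxo] at h7
      norm_num at h7
    · exact eq_neg_of_add_eq_zero_left h5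
  have hneg : ∀ i j : ℕ, y ^ (2 * i) + y ^ (2 * j) ≠ 0 := by
    intro i j h0
    have hy13 : y ^ 13 = -1 := by
      have h1 : (x : L) ^ 13 * y ^ 13 = 1 := by rw [← mul_pow, hxy, one_pow]
      rw [hx13] at h1
      linear_combination -h1
    have h1 : y ^ (2 * i) = y ^ (2 * j + 13) := by
      rw [pow_add, hy13]
      linear_combination h0
    rw [hyu, hyu] at h1
    have h5 := Units.ext h1
    rw [pow_eq_pow_iff_modEq, orderOf_inv, hxo] at h5
    have h6 : (2 * i) % 26 = (2 * j + 13) % 26 := h5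
    omega
  have hsurj : ∀ c : L, c ≠ 0 → ¬ ∀ a, X (c * a) = 1 := by
    intro c hc h0
    apply hX1
    have := h0 c⁻¹
    rwa [mul_inv_cancel₀ hc] at this
  have hXi : ∀ a, X (-a) * X a = 1 := by
    intro a
    rw [← hXadd, neg_add_cancel, hX0]
  have hXne : ∀ a, X a ≠ 0 := by
    intro a h0
    have := hXi a
    rw [h0, mul_zero] at this
    exact zero_ne_one this
  have hinj : Function.Injective l := by
    rintro ⟨i, c⟩ ⟨j, d⟩ hij
    have hij' : ∀ a, l (i, c) a = l (j, d) a := fun a => congrFun hij a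
    cases c <;> cases d
    · by_cases h5 : i = j
      · rw [h5]
      · exfalso
        refine hsurj _ (hne i j i.2 j.2 fun h => h5 (Fin.ext h)) ?_
        intro a
        have h6 : X (y ^ (2 * (i : ℕ)) * a) = X (y ^ (2 * (j : ℕ)) * a) := hij' a
        have h7 : (y ^ (2 * (i : ℕ)) - y ^ (2 * (j : ℕ))) * a = -(y ^ (2 * (j : ℕ)) * a) + y ^ (2 * (i : ℕ)) * a := by ring
        rw [h7, hXadd, h6, hXi]
    · exfalso
      refine hsurj _ (hneg i j) ?_
      intro a
      have h6 : X (y ^ (2 * (i : ℕ)) * a) = X (y ^ (2 * (j : ℕ)) * a) ^ 2 := hij' a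
      rw [add_mul, hXadd, h6, ← pow_succ, hX3]
    · exfalso
      refine hsurj _ (hneg i j) ?_
      intro a
      have h6 : X (y ^ (2 * (i : ℕ)) * a) ^ 2 = X (y ^ (2 * (j : ℕ)) * a) := hij' a
      rw [add_mul, hXadd, ← h6, ← pow_succ', hX3]
    · by_cases h5 : i = j
      · rw [h5]
      · exfalso
        refine hsurj _ (hne i j i.2 j.2 fun h => h5 (Fin.ext h)) ?_
        intro a
        have h6 : X (y ^ (2 * (i : ℕ)) * a) ^ 2 = X (y ^ (2 * (j : ℕ)) * a) ^ 2 := hij' a
        have h8 : X (y ^ (2 * (i : ℕ)) * a) = X (y ^ (2 * (j : ℕ)) * a) := by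
          have h9 := hX3 (y ^ (2 * (i : ℕ)) * a)
          have h10 := hX3 (y ^ (2 * (j : ℕ)) * a)
          have h11 : X (y ^ (2 * (i : ℕ)) * a) ^ 2 * X (y ^ (2 * (i : ℕ)) * a) =
              X (y ^ (2 * (i : ℕ)) * a) ^ 2 * X (y ^ (2 * (j : ℕ)) * a) := by
            rw [← pow_succ, h9, h6, ← pow_succ, h10]
          exact mul_left_cancel₀ (pow_ne_zero 2 (hXne _)) h11
        have h7 : (y ^ (2 * (i : ℕ)) - y ^ (2 * (j : ℕ))) * a = -(y ^ (2 * (j : ℕ)) * a) + y ^ (2 * (i : ℕ)) * a := by ring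
        rw [h7, hXadd, h8, hXi]
  have hfin := Cfsg.Agent.H203.LS.card_le_of_weights (fun a : L => repK ρ (e a)) u l hu0 hu hinj
  rw [Module.finrank_fintype_fun_eq_card, Fintype.card_fin, Nat.card_eq_fintype_card, Fintype.card_prod,
    Fintype.card_fin, Fintype.card_bool] at hfin
  omega

end Cfsg.Agent.H354.EPV
end

-- part: H354/EPV/Num
section
/-!
# Numbers for `PSp` in S3499-V (helper354)
-/

set_option autoImplicit false

namespace Cfsg.Agent.H354.EPV

theorem sq_le_two_pow {t : ℕ} (ht : 7 ≤ t) : 2 * t ^ 2 + t + 6 ≤ 2 ^ t := by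
  induction t, ht using Nat.le_induction with
  | base => norm_num
  | succ t ht ih =>
    rw [pow_succ 2 t]
    nlinarith

theorem num_even {f m : ℕ} (hf : 1 ≤ f) (hm : 2 ≤ m) (hx : 7 ≤ f * m ∨ (f * m = 6 ∧ 2 ≤ f)) :
    f * (2 * m ^ 2 + m + 1) + 4 ≤ (2 ^ f) ^ m - 1 := by
  rw [← pow_mul]
  rcases hx with hx | ⟨hx, hf2⟩
  · have h1 := sq_le_two_pow hx
    have h2 : f * (2 * m ^ 2 + m + 1) ≤ 2 * (f * m) ^ 2 + f * m + 1 := by
      obtain ⟨g, rfl⟩ : ∃ g, f = g + 1 := ⟨f - 1, by omega⟩
      linarith only [Nat.zero_le (g * m ^ 2), Nat.zero_le (g ^ 2 * m ^ 2), Nat.mul_le_mul_left g (Nat.one_le_pow 2 m (by omega))]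
    omega
  · have hm6 : m ≤ 3 := by
      by_contra h
      push Not at h
      have : 2 * 4 ≤ f * m := Nat.mul_le_mul hf2 h
      omega
    rw [hx]
    interval_cases m
    · have : f = 3 := by omega
      subst this
      norm_num
    · have : f = 2 := by omega
      subst this
      norm_num

theorem two_pow_ge {c : ℕ} (hc : 8 ≤ c) : 2 * ((c + 1) * (4 * c + 8)) + 3 * 9 ≤ 3 * 2 ^ c := by
  induction c, hc using Nat.le_induction with
  | base => norm_num
  | succ c hc ih =>
    rw [pow_succ 2 c]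
    nlinarith

theorem num_odd {q m : ℕ} (hq : 3 ≤ q) (hodd : Odd q) (hm : 2 ≤ m) (h1 : ¬ (q = 3 ∧ m = 2)) (h2 : ¬ (q = 3 ∧ m = 3))
    (h3 : ¬ (q = 3 ∧ m = 4)) (h4 : ¬ (q = 5 ∧ m = 2)) (h5 : ¬ (q = 7 ∧ m = 2)) :
    ∃ L, q ^ (2 * m ^ 2 + m + 1) ≤ 2 ^ L ∧ L + 4 ≤ (q ^ m - 1) / 2 := by
  by_cases hX : q ^ m < 256
  · have hm6 : m < 6 := by
      by_contra h
      push Not at h
      have h7 : 3 ^ 6 ≤ q ^ m := (Nat.pow_le_pow_left hq 6).trans (Nat.pow_le_pow_right (by omega) h)
      norm_num at h7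
      omega
    have hq16 : q < 16 := by
      by_contra h
      push Not at h
      have h7 : 16 ^ 2 ≤ q ^ m := (Nat.pow_le_pow_left h 2).trans (Nat.pow_le_pow_right (by omega) hm)
      norm_num at h7
      omega
    refine ⟨(q ^ m - 1) / 2 - 4, ?_, ?_⟩
    all_goals
      interval_cases m <;> interval_cases q <;> first
        | (clear * - h1 h2 h3 h4 h5 hX; omega)
        | (exfalso; exact absurd hodd (by decide))
        | norm_num
  · push Not at hX
    set c := Nat.log 2 (q ^ m) with hc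
    have hX0 : q ^ m ≠ 0 := by positivity
    have hc1 : 2 ^ c ≤ q ^ m := Nat.pow_log_le_self 2 hX0
    have hc2 : q ^ m < 2 ^ (c + 1) := Nat.lt_pow_succ_log_self (by norm_num) _
    have hc8 : 8 ≤ c := by
      by_contra h
      push Not at h
      have h7 : 2 ^ (c + 1) ≤ 2 ^ 8 := Nat.pow_le_pow_right (by norm_num) (by omega)
      norm_num at h7
      omega
    have hmc : 3 * m ≤ 2 * c + 1 := by
      have h7 : 8 ^ m ≤ 9 ^ m := Nat.pow_le_pow_left (by norm_num) m
      have h8 : (3 ^ m) ^ 2 ≤ (q ^ m) ^ 2 := Nat.pow_le_pow_left (Nat.pow_le_pow_left hq m) 2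
      have h9 : (q ^ m) ^ 2 < (2 ^ (c + 1)) ^ 2 := Nat.pow_lt_pow_left hc2 (by norm_num)
      have h10 : 2 ^ (3 * m) < 2 ^ (2 * c + 2) := by
        calc 2 ^ (3 * m) = 8 ^ m := by rw [pow_mul]; norm_num
          _ ≤ 9 ^ m := h7
          _ = (3 ^ m) ^ 2 := by rw [← pow_mul, mul_comm, pow_mul]; norm_num
          _ < (2 ^ (c + 1)) ^ 2 := lt_of_le_of_lt h8 h9
          _ = 2 ^ (2 * c + 2) := by rw [← pow_mul]; congr 1; ring
      have h11 := (Nat.pow_lt_pow_iff_right (by norm_num : 1 < 2)).1 h10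
      omega
    refine ⟨(c + 1) * (2 * m + 2), ?_, ?_⟩
    · calc q ^ (2 * m ^ 2 + m + 1) ≤ q ^ (m * (2 * m + 2)) := Nat.pow_le_pow_right (by omega) (by linarith only [hm])
        _ = (q ^ m) ^ (2 * m + 2) := by rw [pow_mul]
        _ ≤ (2 ^ (c + 1)) ^ (2 * m + 2) := Nat.pow_le_pow_left hc2.le _
        _ = _ := by rw [← pow_mul]
    · have h7 := two_pow_ge hc8
      have h8 : 3 * ((c + 1) * (2 * m + 2)) ≤ (c + 1) * (4 * c + 8) := by
        calc 3 * ((c + 1) * (2 * m + 2)) = (c + 1) * (2 * (3 * m) + 6) := by ring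
          _ ≤ (c + 1) * (4 * c + 8) := Nat.mul_le_mul_left _ (by omega)
      have h9 : (2 ^ c - 1) / 2 ≤ (q ^ m - 1) / 2 := Nat.div_le_div_right (by omega)
      have h10 : 3 * (2 * ((c + 1) * (2 * m + 2) + 4) + 1) ≤ 3 * 2 ^ c := by omega
      have h11 : 2 * ((c + 1) * (2 * m + 2) + 4) + 1 ≤ 2 ^ c := Nat.le_of_mul_le_mul_left h10 (by norm_num)
      (clear * - h9 h10; omega)

end Cfsg.Agent.H354.EPV
end

-- part: H354/EPV/Psp
section
/-!
# S3499-V (helper354): the socle `PSp_2m(s)` in cross characteristic, dimension at least 13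

`cross_psp_of (hg : TwoGen) (E3 : EThree) : CrossPSp`.
-/

set_option autoImplicit false

namespace Cfsg.Agent.H354.EPV

open Subgroup Cfsg Cfsg.Agent.H284 Cfsg.Agent.H419.EP Cfsg.Agent.H912.Bd Cfsg.Agent.H59.EP Cfsg.Agent.H528.EP
open scoped MatrixGroups

/-- the engine E3 of helper904 -/
def EThree : Prop := ∀ {Q : Type} [Group Q] [Finite Q] {A : Subgroup Q} {Γ : Subgroup (MulAut Q)} {ι : Type} [Fintype ι]
    [DecidableEq ι] {F : Type} [Field F] [Fintype F] {S P : Subgroup (GL ι F)}, Big A Γ S P → ∀ L : ℕ,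
    Nat.card A ≤ 2 ^ L → L + 4 ≤ Fintype.card ι → False

section order

variable {K : Type} [Field K] [Fintype K]

theorem card_psp {m q : ℕ} (hF : Fintype.card K = q) (hm : 1 ≤ m) :
    Nat.gcd 2 (q - 1) * Nat.card (Cfsg.PSp m K) = q ^ (m ^ 2) * ∏ i ∈ Finset.range m, (q ^ (2 * (i + 1)) - 1) := by
  have h1 := S0245.result (F := K) hF m
  have h2 := S0246.result (F := K) hF m hm
  have h3 := Subgroup.card_eq_card_quotient_mul_card_subgroup
    (Subgroup.center (Matrix.symplecticGroup (Fin m) K))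
  rw [h1, h2] at h3
  rw [mul_comm]
  exact h3.symm

/-- `|Aut PSp_2m(q)|` -/
theorem card_aut {p f m : ℕ} (hp : p.Prime) (hf : 1 ≤ f) (hK : Fintype.card K = p ^ f) (hm : 2 ≤ m)
    (h : m = 2 → 3 ≤ p ^ f) : Nat.card (MulAut (Cfsg.PSp m K)) =
      (if m = 2 ∧ p = 2 then 2 else 1) * f *
        ((p ^ f) ^ (m ^ 2) * ∏ i ∈ Finset.range m, ((p ^ f) ^ (2 * (i + 1)) - 1)) := by
  have : Fact p.Prime := ⟨hp⟩
  rw [Cfsg.Agent.S0814.result p f hf hK m hm h, ← card_psp hK (show 1 ≤ m by omega)]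
  ring

theorem two_mul_le_two_pow (f : ℕ) (hf : 1 ≤ f) : 2 * f ≤ 2 ^ f := by
  induction f, hf using Nat.le_induction with
  | base => norm_num
  | succ n hn ih =>
    rw [pow_succ]
    omega

theorem card_aut_le {p f m : ℕ} (hp : p.Prime) (hf : 1 ≤ f) (hK : Fintype.card K = p ^ f) (hm : 2 ≤ m)
    (h : m = 2 → 3 ≤ p ^ f) : Nat.card (MulAut (Cfsg.PSp m K)) ≤ (p ^ f) ^ (2 * m ^ 2 + m + 1) := by
  rw [card_aut hp hf hK hm h]
  have h1 : ∀ k : ℕ, ∏ i ∈ Finset.range k, ((p ^ f) ^ (2 * (i + 1)) - 1) ≤ (p ^ f) ^ (k * (k + 1)) := by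
    intro k
    induction k with
    | zero => simp
    | succ k ih =>
      rw [Finset.prod_range_succ]
      calc _ ≤ (p ^ f) ^ (k * (k + 1)) * (p ^ f) ^ (2 * (k + 1)) := Nat.mul_le_mul ih (Nat.sub_le _ _)
        _ = _ := by rw [← pow_add]; congr 1; ring
  have h2 : (if m = 2 ∧ p = 2 then 2 else 1) * f ≤ p ^ f := by
    have h3 : (if m = 2 ∧ p = 2 then 2 else 1) ≤ 2 := by split_ifs <;> norm_num
    calc _ ≤ 2 * f := Nat.mul_le_mul_right _ h3
      _ ≤ 2 ^ f := two_mul_le_two_pow f hf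
      _ ≤ p ^ f := Nat.pow_le_pow_left hp.two_le f
  calc _ ≤ p ^ f * ((p ^ f) ^ (m ^ 2) * (p ^ f) ^ (m * (m + 1))) :=
        Nat.mul_le_mul h2 (Nat.mul_le_mul_left _ (h1 m))
    _ = _ := by rw [← pow_add, ← pow_succ']; congr 1; ring

end order

section

variable {Q : Type} [Group Q] [Finite Q] {A : Subgroup Q} {Γ : Subgroup (MulAut Q)} {ι : Type} [Fintype ι]
    [DecidableEq ι] {F : Type} [Field F] [Fintype F] {S P : Subgroup (GL ι F)}

theorem card_dvd_aut (b : Big A Γ S P) {L : Type} [Group L] (e : socle P ≃* L) :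
    Nat.card A ∣ Nat.card (MulAut L) := by
  obtain ⟨f, hf⟩ := (b.hasSoc' e).exists_hom
  exact Subgroup.card_dvd_of_injective f hf

theorem no_ab (b : Big A Γ S P) : ∀ K : Subgroup Q, K ≤ A → (∀ a ∈ A, ∀ k ∈ K, a * k * a⁻¹ ∈ K) →
    (∀ a ∈ K, ∀ b ∈ K, a * b = b * a) → K = ⊥ := by
  intro K h1 h2 h3
  refine b.hasSoc.no_abelian b.core.simple ?_ h1 h2 h3
  intro hcomm
  exact b.core.nonabelian ⟨⟨hcomm⟩⟩

/-- the bound for `|Q|` from the order of `Aut L`, given by its factorisation -/
theorem card_le_list (hg : TwoGen.{0}) (b : Big A Γ S P) {L : Type} [Group L] (e : socle P ≃* L)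
    (l : List (ℕ × ℕ)) (h1 : ∀ x ∈ l, x.1.Prime ∧ 0 < x.2) (h2 : (l.map Prod.fst).Nodup)
    (hc : Nat.card (MulAut L) = (l.map fun x => x.1 ^ x.2).prod) (h60 : (l.map fun x => x.1 ^ x.2).prod < 60 ^ 60) :
    Nat.card Q ≤ ubQ (l.map fun x => x.1 ^ x.2).prod (l.map fun x => gal x.1 x.2).sum := by
  have hl := galSum_list l h1 h2
  refine EPT.card_le_gen b.simple b.ept hg (no_ab b) hl.2.1 ?_ h60 hl.1.le
  rw [← hc]
  exact card_dvd_aut b e

theorem low (b : Big A Γ S P) {n : ℕ} (hn : n ≤ Fintype.card ι) {x : ℕ} (hx : x ≤ Fintype.card F) :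
    x ^ (n * (n - 1) / 2) ≤ 8 * Nat.card Q := by
  have h2 : 2 ≤ Fintype.card F := b.two_le
  refine le_trans ?_ b.ord
  refine (Nat.pow_le_pow_left hx _).trans (Nat.pow_le_pow_right (by omega) (Nat.div_le_div_right ?_))
  exact Nat.mul_le_mul hn (by omega)

/-- over `F_2` the scalars are trivial -/
theorem scal_bot (hF : Fintype.card F = 2) : (Cfsg.Geo.scalars ι F).subgroupOf P = ⊥ := by
  rw [Subgroup.eq_bot_iff_forall]
  intro x hx
  rw [Subgroup.mem_subgroupOf, Cfsg.Geo.mem_scalars_iff] at hx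
  obtain ⟨c, hc⟩ := hx
  have hc1 : (c : F) = 1 := by
    have h1 := FiniteField.pow_card_sub_one_eq_one (c : F) c.ne_zero
    rw [hF] at h1
    simpa using h1
  apply Subtype.ext
  apply Units.ext
  rw [hc, hc1, one_smul]
  rfl

/-- `PSp_6(3)` over `F_2` -/
theorem twist_big {K : Type} [Field K] [Fintype K] (hK : Fintype.card K = 3) (hF : Fintype.card F = 2)
    (e : socle P ≃* Cfsg.PSp 3 K) : 26 ≤ Fintype.card ι := by
  have hb := scal_bot (ι := ι) (P := P) hF
  have hbij : Function.Bijective (QuotientGroup.mk' ((Cfsg.Geo.scalars ι F).subgroupOf P)) := by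
    refine ⟨?_, QuotientGroup.mk'_surjective _⟩
    rw [← MonoidHom.ker_eq_bot_iff, QuotientGroup.ker_mk', hb]
  let E : P ≃* socle P := MulEquiv.ofBijective _ hbij
  let ρ : Matrix.symplecticGroup (Fin 3) K →* Matrix.GeneralLinearGroup (Fin (Fintype.card ι)) F :=
    (reix ι F).toMonoidHom.comp (P.subtype.comp (E.symm.toMonoidHom.comp (e.symm.toMonoidHom.comp
      (QuotientGroup.mk' (Subgroup.center (Matrix.symplecticGroup (Fin 3) K))))))
  refine twist hK hF ρ ?_
  intro x hx
  have h1 : reix ι F ((E.symm (e.symm (QuotientGroup.mk' (Subgroup.center (Matrix.symplecticGroup (Fin 3) K)) x)) : P) :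
      GL ι F) = 1 := hx
  rw [map_eq_one_iff _ (reix ι F).injective] at h1
  have h2 : E.symm (e.symm (QuotientGroup.mk' (Subgroup.center (Matrix.symplecticGroup (Fin 3) K)) x)) = 1 :=
    Subtype.ext h1
  rw [MulEquiv.map_eq_one_iff, MulEquiv.map_eq_one_iff] at h2
  exact (QuotientGroup.eq_one_iff x).1 h2

end

theorem cross_psp_of (hg : TwoGen.{0}) (E3 : EThree) : CrossPSp := by
  intro Q _ _ A Γ ι _ _ F _ _ S P b K _ _ m hm h3 hchar ⟨e⟩
  obtain ⟨p, hcK⟩ := CharP.exists K
  obtain ⟨k, hp, hK⟩ := FiniteField.card K p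
  obtain ⟨f, hf, hkf⟩ : ∃ f : ℕ, 1 ≤ f ∧ (k : ℕ) = f := ⟨k, k.2, rfl⟩
  rw [hkf] at hK
  have hpf : Fact p.Prime := ⟨hp⟩
  rw [hK] at h3
  have hFp : ¬ CharP F p := by
    intro h
    apply hchar
    rw [ringChar.eq F p, ringChar.eq K p]
  have hpF : (p : F) ≠ 0 := by
    intro h0
    apply hFp
    obtain ⟨r, hr⟩ := CharP.exists F
    have hr1 : r ≠ 1 := fun h => CharP.char_ne_one F r h
    have h4 : r ∣ p := (CharP.cast_eq_zero_iff F r p).1 h0
    have h5 : r = p := ((Nat.dvd_prime hp).1 h4).resolve_left hr1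
    exact h5 ▸ hr
  have hq2 : 2 ≤ p ^ f := by
    have := hK ▸ Fintype.one_lt_card (α := K)
    omega
  -- the cardinality of `F`
  have hFc : ∀ x : ℕ, Fintype.card F = p ^ x → False := by
    intro x hx
    have h4 := FiniteField.cast_card_eq_zero F
    rw [hx, Nat.cast_pow] at h4
    exact hpF (eq_zero_of_pow_eq_zero h4)
  have h13 := b.thirteen
  have hF2 := b.two_le
  have hA : Nat.card A ≤ (p ^ f) ^ (2 * m ^ 2 + m + 1) :=
    (Nat.le_of_dvd Nat.card_pos (card_dvd_aut b e)).trans (card_aut_le hp hf hK hm h3)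
  have hcop : (Nat.gcd 2 (p ^ f - 1)).Coprime p := by
    refine (Nat.Coprime.symm ((Nat.Prime.coprime_iff_not_dvd hp).2 fun h => ?_))
    have h4 := (Nat.dvd_sub_iff_right (by omega : 1 ≤ p ^ f) (dvd_pow_self p (by omega))).1 (h.trans (Nat.gcd_dvd_right _ _))
    exact hp.one_lt.ne' (Nat.dvd_one.1 h4)
  -- the numerical cases
  have key : ∀ (l : List (ℕ × ℕ)) (n x : ℕ), (∀ y ∈ l, y.1.Prime ∧ 0 < y.2) → (l.map Prod.fst).Nodup →
      (if m = 2 ∧ p = 2 then 2 else 1) * f *
        ((p ^ f) ^ (m ^ 2) * ∏ i ∈ Finset.range m, ((p ^ f) ^ (2 * (i + 1)) - 1)) = (l.map fun x => x.1 ^ x.2).prod →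
      (l.map fun x => x.1 ^ x.2).prod < 60 ^ 60 → n ≤ Fintype.card ι → x ≤ Fintype.card F →
      8 * ubQ (l.map fun x => x.1 ^ x.2).prod (l.map fun x => gal x.1 x.2).sum < x ^ (n * (n - 1) / 2) → False := by
    intro l n x h1 h2 h4 h5 hn hx hlt
    have h6 := card_le_list hg b e l h1 h2 (by rw [card_aut hp hf hK hm h3, h4]) h5
    have h7 := low b hn hx
    omega
  by_cases h32 : m = 3 ∧ p ^ f = 2
  · -- `Sp_6(2)`
    obtain ⟨rfl, h2⟩ := h32
    have hp2 : p = 2 := by
      have := (Nat.dvd_prime Nat.prime_two).1 (h2 ▸ dvd_pow_self p (by omega))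
      rcases this with h | h
      · exact absurd h hp.one_lt.ne'
      · exact h
    subst hp2
    have hf1 : f = 1 := by
      have : 2 ^ f = 2 ^ 1 := by rw [h2]; rfl
      exact Nat.pow_right_injective le_rfl this
    subst hf1
    have hF3 : 3 ≤ Fintype.card F := by
      by_contra h
      exact hFc 1 (by omega)
    exact key [(2, 9), (3, 4), (5, 1), (7, 1)] 13 3 (by decide +kernel) (by decide +kernel) (by decide +kernel)
      (by decide +kernel) h13 hF3 (by decide +kernel)
  have hM := Cfsg.Agent.S2092.result hK m hm h3 h32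
  by_cases hp2 : p = 2
  · -- `q` even
    subst hp2
    have hn : (2 ^ f) ^ m - 1 ≤ Fintype.card ι :=
      Big.le_of_bd b e hM hcop (Cfsg.Agent.H175.BdSp.bd_psp_even (F := F) hK (show 1 ≤ m by omega)
        (by exact_mod_cast hpF) (MulEquiv.refl _))
    have hF3 : 3 ≤ Fintype.card F := by
      by_contra h
      exact hFc 1 (by omega)
    by_cases hx : 7 ≤ f * m ∨ (f * m = 6 ∧ 2 ≤ f)
    · refine E3 b (f * (2 * m ^ 2 + m + 1)) (by rw [pow_mul]; exact hA) ?_
      exact (num_even hf hm hx).trans hn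
    · push Not at hx
      obtain ⟨hx1, hx2⟩ := hx
      have hfm : f * m ≤ 6 := by omega
      have hf3 : f ≤ 3 := by nlinarith only [hm, hx1]
      have hm6 : m ≤ 6 := by nlinarith only [hf, hx1]
      have hc : (f = 1 ∧ m = 4) ∨ (f = 1 ∧ m = 5) ∨ (f = 1 ∧ m = 6) ∨ (f = 2 ∧ m = 2) := by
        interval_cases f <;> interval_cases m <;> first
          | (clear * - h3 h32 hx2 hx1; omega)
          | (exfalso; exact h32 ⟨rfl, rfl⟩)
      rcases hc with ⟨rfl, rfl⟩ | ⟨rfl, rfl⟩ | ⟨rfl, rfl⟩ | ⟨rfl, rfl⟩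
      · -- `Sp_8(2)`
        norm_num only [] at hn
        have h16 : 5 ≤ Fintype.card F ∨ 16 ≤ Fintype.card ι := by
          by_contra hcon
          push Not at hcon
          have hF4 : Fintype.card F = 3 := by
            have : Fintype.card F ≠ 4 := fun h => hFc 2 h
            omega
          have hn15 : Fintype.card ι = 15 := by omega
          have h4 := Big.card_dvd_gl (F := F) e
          have h5 : 17 ∣ Nat.card (Cfsg.PSp 4 K) := by
            have h6 := card_psp hK (show 1 ≤ 4 by norm_num)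
            norm_num [Finset.prod_range_succ] at h6
            rw [h6]
            decide +kernel
          have h6 := h5.trans h4
          rw [hF4, hn15] at h6
          revert h6
          decide +kernel
        rcases h16 with h16 | h16
        · exact key [(2, 16), (3, 5), (5, 2), (7, 1), (17, 1)] 15 5 (by decide +kernel) (by decide +kernel)
            (by decide +kernel) (by decide +kernel) hn h16 (by decide +kernel)
        · exact key [(2, 16), (3, 5), (5, 2), (7, 1), (17, 1)] 16 3 (by decide +kernel) (by decide +kernel)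
            (by decide +kernel) (by decide +kernel) h16 hF3 (by decide +kernel)
      · norm_num only [] at hn
        exact key [(2, 25), (3, 6), (5, 2), (7, 1), (11, 1), (17, 1), (31, 1)] 31 3 (by decide +kernel)
          (by decide +kernel) (by decide +kernel) (by decide +kernel) hn hF3 (by decide +kernel)
      · norm_num only [] at hn
        exact key [(2, 36), (3, 8), (5, 3), (7, 2), (11, 1), (13, 1), (17, 1), (31, 1)] 63 3 (by decide +kernel)
          (by decide +kernel) (by decide +kernel) (by decide +kernel) hn hF3 (by decide +kernel)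
      · norm_num only [] at hn
        exact key [(2, 10), (3, 2), (5, 2), (17, 1)] 15 3 (by decide +kernel) (by decide +kernel)
          (by decide +kernel) (by decide +kernel) hn hF3 (by decide +kernel)
  · -- `q` odd
    have hodd : Odd (p ^ f) := (hp.odd_of_ne_two hp2).pow
    have hq3 : 3 ≤ p ^ f := by
      obtain ⟨a, ha⟩ := hodd
      omega
    have hn : ((p ^ f) ^ m - 1) / 2 ≤ Fintype.card ι :=
      Big.le_of_bd b e hM hcop (Cfsg.Agent.H175.BdSp.bd_psp (F := F) hp hK (show 1 ≤ m by omega) hpF (MulEquiv.refl _))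
    have hprime : ∀ r : ℕ, r.Prime → p ^ f = r → p = r ∧ f = 1 := by
      intro r hr h
      have h4 : p ∣ r := h ▸ dvd_pow_self p (by omega)
      have h5 : p = r := (Nat.prime_dvd_prime_iff_eq hp hr).1 h4
      refine ⟨h5, ?_⟩
      rw [← h5] at h
      have : p ^ f = p ^ 1 := by rw [h, pow_one]
      exact Nat.pow_right_injective hp.two_le this
    by_cases h1 : p ^ f = 3 ∧ m = 2
    · obtain ⟨h4, rfl⟩ := h1
      obtain ⟨rfl, rfl⟩ := hprime 3 (by norm_num) h4
      -- `PSp_4(3)`
      exact key [(2, 7), (3, 4), (5, 1)] 13 2 (by decide +kernel) (by decide +kernel)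
        (by decide +kernel) (by decide +kernel) h13 hF2 (by decide +kernel)
    by_cases h2 : p ^ f = 3 ∧ m = 3
    · obtain ⟨h4, rfl⟩ := h2
      obtain ⟨rfl, rfl⟩ := hprime 3 (by norm_num) h4
      -- `PSp_6(3)`
      by_cases hFt : Fintype.card F = 2
      · have h26 := twist_big hK hFt e
        exact key [(2, 10), (3, 9), (5, 1), (7, 1), (13, 1)] 26 2 (by decide +kernel) (by decide +kernel)
          (by decide +kernel) (by decide +kernel) h26 hF2 (by decide +kernel)
      · have hF4 : 4 ≤ Fintype.card F := by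
          have : Fintype.card F ≠ 3 := fun h => hFc 1 h
          omega
        exact key [(2, 10), (3, 9), (5, 1), (7, 1), (13, 1)] 13 4 (by decide +kernel) (by decide +kernel)
          (by decide +kernel) (by decide +kernel) h13 hF4 (by decide +kernel)
    by_cases h5 : p ^ f = 3 ∧ m = 4
    · obtain ⟨h4, rfl⟩ := h5
      obtain ⟨rfl, rfl⟩ := hprime 3 (by norm_num) h4
      norm_num only [] at hn
      exact key [(2, 15), (3, 16), (5, 2), (7, 1), (13, 1), (41, 1)] 40 2 (by decide +kernel) (by decide +kernel)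
        (by decide +kernel) (by decide +kernel) hn hF2 (by decide +kernel)
    by_cases h6 : p ^ f = 5 ∧ m = 2
    · obtain ⟨h4, rfl⟩ := h6
      obtain ⟨rfl, rfl⟩ := hprime 5 (by norm_num) h4
      -- `PSp_4(5)`
      by_cases hFt : Fintype.card F = 2
      · have h16 : 16 ≤ Fintype.card ι := by
          by_contra hcon
          push Not at hcon
          have h7 := Big.card_dvd_gl (F := F) e
          have h8 : 5 ^ 4 ∣ Nat.card (Cfsg.PSp 2 K) := by
            have h9 := card_psp hK (show 1 ≤ 2 by norm_num)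
            norm_num [Finset.prod_range_succ] at h9
            have h10 : Nat.card (Cfsg.PSp 2 K) = 4680000 := by omega
            rw [h10]
            decide +kernel
          have h9 := h8.trans h7
          have h10 : Fintype.card ι = 13 ∨ Fintype.card ι = 14 ∨ Fintype.card ι = 15 := by omega
          rw [hFt] at h9
          rcases h10 with h10 | h10 | h10
          all_goals
            rw [h10] at h9
            revert h9
            decide +kernel
        exact key [(2, 7), (3, 2), (5, 4), (13, 1)] 16 2 (by decide +kernel) (by decide +kernel)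
          (by decide +kernel) (by decide +kernel) h16 hF2 (by decide +kernel)
      · have hF3 : 3 ≤ Fintype.card F := by omega
        exact key [(2, 7), (3, 2), (5, 4), (13, 1)] 13 3 (by decide +kernel) (by decide +kernel)
          (by decide +kernel) (by decide +kernel) h13 hF3 (by decide +kernel)
    by_cases h7 : p ^ f = 7 ∧ m = 2
    · obtain ⟨h4, rfl⟩ := h7
      obtain ⟨rfl, rfl⟩ := hprime 7 (by norm_num) h4
      norm_num only [] at hn
      exact key [(2, 9), (3, 2), (5, 2), (7, 4)] 24 2 (by decide +kernel) (by decide +kernel)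
        (by decide +kernel) (by decide +kernel) hn hF2 (by decide +kernel)
    obtain ⟨L, hL1, hL2⟩ := num_odd hq3 hodd hm h1 h2 h5 h6 h7
    exact E3 b L (hA.trans hL1) (hL2.trans hn)

end Cfsg.Agent.H354.EPV
end
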